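import Cfsg.Agent.SylowTypes.WeaklyClosed
import Cfsg.Agent.SignalizersComponents.CoreBalance
import Cfsg.Agent.Lib.LocalCore
import Cfsg.Agent.Lib.ProductSet

/-!
# `V O(G)` is normal: a criterion for weakly closed elementary abelian 2-subgroups

`V ≤ P ∈ Syl₂(G)` elementary abelian of order at least 8, weakly closed in `P`, the conjugates in `P` of the
involutions of `Z(P)` are in `V`, not all involutions of `V` are conjugate, and for `1 ≠ v ∈ V` the centralizer
`C_G(v)` is solvable and equal to `O(C_G(v)) N_{C_G(v)}(V)`.  Then `G = O(G) N_G(V)`, i.e. `V O(G)` is normal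
(theorem T1 of helper445, from the project S0513).  The completeness of the signalizer functor is a hypothesis
in `eq_top` (it is S0217).
-/

set_option autoImplicit false

namespace Cfsg.Agent.SylowTypes.NormalCore

open Subgroup Cfsg Cfsg.Agent.SignalizersComponents.RelSylow Cfsg.Agent.SignalizersComponents.PLayerAut
open Cfsg.Agent.SignalizersComponents.CoreBalance (le_relCore le_normalizer_relCore)

open scoped Pointwise

variable {G : Type*} [Group G]

/-- If `C(b)` is solvable and `a` is an involution commuting with `b` then `O(C(a)) ∩ C(b) ≤ O(C(b))`. -/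
theorem balance [Finite G] {a b : G} (haa : a * a = 1) (hab : a * b = b * a)
    (hs : Group.IsSolvable ↥(centralizer ({b} : Set G))) :
    relCore 2 (centralizer ({a} : Set G)) ⊓ centralizer ({b} : Set G) ≤ relCore 2 (centralizer ({b} : Set G)) := by
  have : Fact (Nat.Prime 2) := ⟨Nat.prime_two⟩
  by_cases ha1 : a = 1
  · subst ha1
    have h1 : centralizer ({1} : Set G) = ⊤ := by
      rw [eq_top_iff]; intro x _
      rw [mem_centralizer_singleton_iff, mul_one, one_mul]
    rw [h1]
    apply le_relCore inf_le_right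
    · exact Nat.Coprime.coprime_dvd_left (card_dvd_of_le inf_le_left) (relCore_coprime 2 _)
    · intro x hx
      have h2 : x ∈ normalizer (relCore 2 (⊤ : Subgroup G) : Set G) := le_normalizer_relCore 2 ⊤ (mem_top x)
      have h3 : x ∈ normalizer (centralizer ({b} : Set G) : Set G) := le_normalizer hx
      exact inf_normalizer_le_normalizer_inf ⟨h2, h3⟩
  · apply Cfsg.Agent.Lib.LocalCore.pPrimeCoreOf_inf_le 2 _ _ (zpowers a) hs
    · apply IsPGroup.of_card (n := 1)
      rw [Nat.card_zpowers, pow_one]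
      exact orderOf_eq_prime (by rw [pow_two, haa]) ha1
    · rw [zpowers_le, mem_centralizer_singleton_iff]
      exact hab
    · intro x hx
      rw [mem_centralizer_singleton_iff] at hx
      apply centralizer_le_normalizer
      rw [mem_centralizer_iff]
      rintro _ ⟨k, rfl⟩
      exact ((Commute.zpow_right (show Commute x a from hx) k).eq).symm
    · rintro x ⟨-, hx⟩
      rw [mem_centralizer_singleton_iff]
      have h1 : x * a * x⁻¹ ∈ zpowers a := (mem_normalizer_iff.1 hx a).1 (mem_zpowers a)
      have h2 : x * a * x⁻¹ = a := by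
        obtain ⟨k, hk⟩ := h1
        rcases Int.even_or_odd' k with ⟨j, hj | hj⟩
        · exfalso
          apply ha1
          have h3 : x * a * x⁻¹ = 1 := by
            rw [← hk]
            change a ^ k = 1
            rw [hj, zpow_mul, zpow_two, haa, one_zpow]
          calc a = x⁻¹ * (x * a * x⁻¹) * x := by group
            _ = 1 := by rw [h3]; group
        · rw [← hk]
          change a ^ k = a
          rw [hj, zpow_add, zpow_mul, zpow_two, haa, one_zpow, zpow_one, one_mul]
      exact mul_inv_eq_iff_eq_mul.1 h2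

/-- The join of the `O(C(a))`, `1 ≠ a ∈ V`. -/
def coreJoin (V : Subgroup G) : Subgroup G :=
  ⨆ a : {a : G // a ∈ V ∧ a ≠ 1}, relCore 2 (centralizer ({(a : G)} : Set G))

theorem relCore_le_coreJoin {V : Subgroup G} {a : G} (ha : a ∈ V) (ha1 : a ≠ 1) :
    relCore 2 (centralizer ({a} : Set G)) ≤ coreJoin V :=
  le_iSup (fun a : {a : G // a ∈ V ∧ a ≠ 1} => relCore 2 (centralizer ({(a : G)} : Set G))) ⟨a, ha, ha1⟩

theorem map_centralizer_singleton (g a : G) :
    (centralizer ({a} : Set G)).map (MulAut.conj g).toMonoidHom = centralizer ({g * a * g⁻¹} : Set G) := by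
  ext x
  rw [mem_map_conj, mem_centralizer_singleton_iff, mem_centralizer_singleton_iff]
  constructor
  · intro h
    calc x * (g * a * g⁻¹) = g * (g⁻¹ * x * g * a) * g⁻¹ := by group
      _ = g * (a * (g⁻¹ * x * g)) * g⁻¹ := by rw [h]
      _ = g * a * g⁻¹ * x := by group
  · intro h
    calc g⁻¹ * x * g * a = g⁻¹ * (x * (g * a * g⁻¹)) * g := by group
      _ = g⁻¹ * (g * a * g⁻¹ * x) * g := by rw [h]
      _ = a * (g⁻¹ * x * g) := by group

theorem normalizer_le_normalizer_coreJoin (V : Subgroup G) :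
    normalizer (V : Set G) ≤ normalizer (coreJoin V : Set G) := by
  rw [le_normalizer_iff]
  intro g hg
  have key : coreJoin V ≤ (coreJoin V).comap (MulAut.conj g).toMonoidHom := by
    unfold coreJoin
    refine iSup_le ?_
    rintro ⟨a, ha, ha1⟩
    rw [← map_le_iff_le_comap]
    have h1 := relCore_map_equiv 2 (MulAut.conj g) (centralizer ({a} : Set G))
    have h2 : (relCore 2 (centralizer ({a} : Set G))).map (MulAut.conj g).toMonoidHom =
        relCore 2 (centralizer ({g * a * g⁻¹} : Set G)) := by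
      rw [← h1, map_centralizer_singleton]
    change (relCore 2 (centralizer ({a} : Set G))).map (MulAut.conj g).toMonoidHom ≤ _
    rw [h2]
    refine relCore_le_coreJoin ((mem_normalizer_iff.1 hg a).1 ha) ?_
    intro hh
    apply ha1
    calc a = g⁻¹ * (g * a * g⁻¹) * g := by group
      _ = 1 := by rw [hh]; group
  intro x hx
  exact key hx

/-- **T1**, with the completeness of the signalizer functor as a hypothesis. -/
theorem eq_top [Finite G] {P : Sylow 2 G} {V : Subgroup G} (hle : V ≤ P) (hsq : ∀ v ∈ V, v * v = 1)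
    (hweak : ∀ g : G, (∀ v ∈ V, g * v * g⁻¹ ∈ (P : Subgroup G)) → ∀ v ∈ V, g * v * g⁻¹ ∈ V)
    (hfus : ∀ x ∈ (P : Subgroup G), x * x = 1 → x ≠ 1 → (∀ p ∈ (P : Subgroup G), p * x = x * p) →
      ∀ g : G, g * x * g⁻¹ ∈ (P : Subgroup G) → g * x * g⁻¹ ∈ V)
    {z v : G} (hz : z ∈ (P : Subgroup G)) (hzz : z * z = 1) (hz1 : z ≠ 1)
    (hzc : ∀ p ∈ (P : Subgroup G), p * z = z * p) (hv : v ∈ V) (hv1 : v ≠ 1) (hzv : ¬ IsConj z v)
    (hgen : ∀ v ∈ V, v ≠ 1 → centralizer ({v} : Set G) ≤
      relCore 2 (centralizer ({v} : Set G)) ⊔ normalizer (V : Set G))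
    (hcomplete : ¬ 2 ∣ Nat.card (coreJoin V)) : pPrimeCore 2 G ⊔ normalizer (V : Set G) = ⊤ := by
  -- first step: `coreJoin V` is normal
  have c1 : WeaklyClosed.Config P V (normalizer (coreJoin V : Set G)) :=
    { le := hle, sq := hsq, weak := hweak, fus := hfus
      norm := normalizer_le_normalizer_coreJoin V
      cent := fun a ha ha1 => (hgen a ha ha1).trans
        (sup_le ((relCore_le_coreJoin ha ha1).trans le_normalizer) (normalizer_le_normalizer_coreJoin V)) }
  have h1 := c1.eq_top hz hzz hz1 hzc hv hv1 hzv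
  have h2 : (coreJoin V).Normal := normalizer_eq_top_iff.1 h1
  have h3 : coreJoin V ≤ pPrimeCore 2 G := by
    apply Cfsg.Agent.Lib.Cores.le_pPrimeCore h2
    exact ((Nat.Prime.coprime_iff_not_dvd Nat.prime_two).2 hcomplete).symm
  have c2 : WeaklyClosed.Config P V (pPrimeCore 2 G ⊔ normalizer (V : Set G)) :=
    { le := hle, sq := hsq, weak := hweak, fus := hfus
      norm := le_sup_right
      cent := fun a ha ha1 => (hgen a ha ha1).trans
        (sup_le_sup_right ((relCore_le_coreJoin ha ha1).trans h3) _) }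
  exact c2.eq_top hz hzz hz1 hzc hv hv1 hzv

/-- The cores of the centralizers are a solvable signalizer functor. -/
theorem isSolvableSignalizerFunctor [Finite G] {V : Subgroup G} (hsq : ∀ v ∈ V, v * v = 1)
    (hsolv : ∀ v ∈ V, v ≠ 1 → Group.IsSolvable ↥(centralizer ({v} : Set G))) :
    Cfsg.IsSolvableSignalizerFunctor 2 V (fun a => relCore 2 (centralizer ({a} : Set G))) := by
  have hcomm : ∀ a ∈ V, ∀ b ∈ V, a * b = b * a := by
    intro a ha b hb
    have h1 := hsq _ (mul_mem ha hb)
    have h2 : a⁻¹ = a := inv_eq_of_mul_eq_one_left (hsq a ha)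
    have h3 : b⁻¹ = b := inv_eq_of_mul_eq_one_left (hsq b hb)
    have h4 : (a * b)⁻¹ = a * b := inv_eq_of_mul_eq_one_left h1
    rw [mul_inv_rev, h2, h3] at h4
    exact h4.symm
  refine ⟨⟨fun a _ _ => relCore_le 2 _, fun a _ _ => ?_, fun a ha _ b hb x hx => ?_, fun a ha _ b hb hb1 => ?_⟩,
    fun a ha ha1 => ?_⟩
  · exact (Nat.Prime.coprime_iff_not_dvd Nat.prime_two).1 (relCore_coprime 2 _).symm
  · exact (mem_normalizer_iff.1 (le_normalizer_relCore 2 _ (mem_centralizer_singleton_iff.2 (hcomm b hb a ha))) x).1 hx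
  · exact balance (hsq a ha) (hcomm a ha b hb) (hsolv b hb hb1)
  · have := hsolv a ha ha1
    exact Group.isSolvable_of_isSolvable_injective (inclusion_injective (relCore_le 2 (centralizer ({a} : Set G))))

/-- Frattini argument: if `V O(C)` is normal in `C ≥ V` then `C = O(C) N_C(V)`. -/
theorem le_sup_normalizer [Finite G] {V C : Subgroup G} (hV : IsPGroup 2 V) (hVC : V ≤ C)
    (hn : C ≤ normalizer ((V ⊔ relCore 2 C : Subgroup G) : Set G)) :
    C ≤ relCore 2 C ⊔ normalizer (V : Set G) := by
  have : Fact (Nat.Prime 2) := ⟨Nat.prime_two⟩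
  set W := V ⊔ relCore 2 C with hW
  have hVW : V ≤ W := le_sup_left
  have hVn : V ≤ normalizer (relCore 2 C : Set G) := hVC.trans (le_normalizer_relCore 2 C)
  have hcop : (Nat.card V).Coprime (Nat.card (relCore 2 C)) := by
    obtain ⟨k, hk⟩ := IsPGroup.iff_card.1 hV
    rw [hk]
    exact (Nat.Coprime.pow_right k (relCore_coprime 2 C)).symm
  -- `V` is a Sylow 2-subgroup of `W`
  have hmax : IsMaxP 2 W V := by
    apply isMaxP_of_not_dvd hV hVW
    have h1 : V.relIndex W ∣ Nat.card (relCore 2 C) := by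
      have e1 : ((V ⊔ relCore 2 C : Subgroup G) : Set G) = (V : Set G) * (relCore 2 C : Set G) :=
        coe_mul_of_left_le_normalizer_right V (relCore 2 C) hVn
      have e2 := Cfsg.Agent.Lib.ProductSet.card_mul_card_inf V (relCore 2 C)
      have e3 : V ⊓ relCore 2 C = ⊥ := (disjoint_of_coprime_natCard hcop).eq_bot
      rw [← e1, e3, card_bot, mul_one] at e2
      have e4 := relIndex_mul_relIndex (⊥ : Subgroup G) V W bot_le hVW
      rw [relIndex_bot_left, relIndex_bot_left] at e4
      have e5 : Nat.card V * V.relIndex W = Nat.card V * Nat.card (relCore 2 C) := by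
        rw [e4]; exact e2
      exact (Nat.eq_of_mul_eq_mul_left Nat.card_pos e5).dvd
    intro h2
    have h3 := relCore_coprime 2 C
    have h4 := h2.trans h1
    rw [Nat.coprime_comm, Nat.Prime.coprime_iff_not_dvd Nat.prime_two] at h3
    exact h3 h4
  intro c hc
  have h1 := hmax.map_conj_mem (hn hc)
  obtain ⟨w, hw, h2⟩ := h1.exists_conj hmax
  have h3 : w * c ∈ normalizer (V : Set G) := by
    rw [mem_normalizer_iff]
    intro y
    have h11 : w * c * y * (w * c)⁻¹ ∈ (V.map (MulAut.conj c).toMonoidHom).map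
        (MulAut.conj w).toMonoidHom ↔ y ∈ V := by
      rw [mem_map_conj, mem_map_conj]
      have : c⁻¹ * (w⁻¹ * (w * c * y * (w * c)⁻¹) * w) * c = y := by group
      rw [this]
    rw [h2] at h11
    exact h11.symm
  have h4 : W ≤ relCore 2 C ⊔ normalizer (V : Set G) :=
    sup_le (le_normalizer.trans le_sup_right) le_sup_left
  have h5 : c = w⁻¹ * (w * c) := by group
  rw [h5]
  exact mul_mem (inv_mem (h4 hw)) (le_sup_right (a := relCore 2 C) h3)

/-- If `G = O(G) N(V)` then `V O(G)` is normal. -/
theorem sup_normal {V : Subgroup G} (h : pPrimeCore 2 G ⊔ normalizer (V : Set G) = ⊤) :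
    (V ⊔ pPrimeCore 2 G).Normal := by
  have hO : (pPrimeCore 2 G).Normal := Cfsg.Agent.Lib.Cores.pPrimeCore_normal 2
  rw [← normalizer_eq_top_iff, eq_top_iff, ← h]
  apply sup_le
  · exact le_sup_right.trans le_normalizer
  · rw [le_normalizer_iff]
    intro g hg x hx
    have key : V ⊔ pPrimeCore 2 G ≤ (V ⊔ pPrimeCore 2 G).comap (MulAut.conj g).toMonoidHom := by
      apply sup_le
      · intro v hv
        exact (le_sup_left : V ≤ V ⊔ pPrimeCore 2 G) ((mem_normalizer_iff.1 hg v).1 hv)
      · intro v hv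
        exact (le_sup_right : pPrimeCore 2 G ≤ V ⊔ pPrimeCore 2 G) (hO.conj_mem v hv g)
    exact key hx

end Cfsg.Agent.SylowTypes.NormalCore
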