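import Mathlib.GroupTheory.PGroup
import Mathlib.GroupTheory.Perm.Cycle.Type
import Mathlib.GroupTheory.GroupAction.Basic
import Mathlib.Tactic

/-!
# Involutions with exactly one fixed point

`G` is a finite group acting on the finite set `Ω` of odd order, `D` is a set of involutions closed under
conjugation such that every point is fixed by an odd number of elements of `D`, every element of `D` fixes
exactly one point and, for commuting `d ≠ e` in `D`, the centralizer of `d * e` fixes that point.  If no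
involution acts trivially then every involution with exactly one fixed point is in `D`
(a lemma of helper445, from the project S0513).
-/

set_option autoImplicit false

namespace Cfsg.Agent.SylowTypes.Lite

variable {G Ω : Type*} [Group G] [MulAction G Ω]

/-- The hypotheses of the lemma. -/
structure Data (G Ω : Type*) [Group G] [MulAction G Ω] (D : Set G) : Prop where
  conj : ∀ g : G, ∀ d ∈ D, g * d * g⁻¹ ∈ D
  sq : ∀ d ∈ D, d * d = 1
  fix : ∀ d ∈ D, ∃ a : Ω, d • a = a ∧ ∀ b : Ω, d • b = b → b = a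
  comm : ∀ d ∈ D, ∀ e ∈ D, d ≠ e → d * e = e * d → ∀ a : Ω, d • a = a →
    ∀ g : G, g * (d * e) = d * e * g → g • a = a
  odd_fiber : ∀ a : Ω, Odd (Nat.card {d : G // d ∈ D ∧ d • a = a})

namespace Data

variable {D : Set G}

section General

theorem unique_fix (h : Data G Ω D) {d : G} (hd : d ∈ D) {a b : Ω} (ha : d • a = a) (hb : d • b = b) : a = b := by
  obtain ⟨c, -, hc⟩ := h.fix d hd
  rw [hc a ha, hc b hb]

/-- An element commuting with `d ∈ D` fixes the fixed point of `d`. -/
theorem fix_of_comm (h : Data G Ω D) {d g : G} (hd : d ∈ D) {a : Ω} (ha : d • a = a) (hg : g * d = d * g) :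
    g • a = a := by
  apply h.unique_fix hd _ ha
  rw [← mul_smul, ← hg, mul_smul, ha]

/-- the reflections of `⟨d, e⟩` are in `D`. -/
theorem zpow_mul_mem (h : Data G Ω D) {d e : G} (hd : d ∈ D) (he : e ∈ D) (k : ℤ) : (d * e) ^ k * d ∈ D := by
  have hdd := h.sq d hd
  have hee := h.sq e he
  have hdi : d⁻¹ = d := inv_eq_of_mul_eq_one_left hdd
  have hei : e⁻¹ = e := inv_eq_of_mul_eq_one_left hee
  have h1 : d * (d * e) * d⁻¹ = (d * e)⁻¹ := by
    rw [hdi, mul_inv_rev, hdi, hei, ← mul_assoc, hdd, one_mul]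
  have h2 : ∀ j : ℤ, d * (d * e) ^ j = (d * e) ^ (-j) * d := by
    intro j
    have : d * (d * e) ^ j * d⁻¹ = (d * e) ^ (-j) := by
      rw [← conj_zpow, h1, inv_zpow, zpow_neg]
    rw [← this]; group
  obtain ⟨j, hj⟩ | ⟨j, hj⟩ := Int.even_or_odd k
  · have h3 := h.conj ((d * e) ^ j) d hd
    have h4 : (d * e) ^ j * d * ((d * e) ^ j)⁻¹ = (d * e) ^ k * d := by
      rw [← zpow_neg, mul_assoc, h2, neg_neg, ← mul_assoc, ← zpow_add, hj]
    rwa [h4] at h3
  · have h3 := h.conj ((d * e) ^ j) _ (h.conj d e he)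
    have h4 : (d * e) ^ j * (d * e * d⁻¹) * ((d * e) ^ j)⁻¹ = (d * e) ^ k * d := by
      rw [← zpow_neg, hdi, hj]
      calc (d * e) ^ j * (d * e * d) * (d * e) ^ (-j) = (d * e) ^ j * (d * e) * (d * (d * e) ^ (-j)) := by
            simp only [mul_assoc]
        _ = (d * e) ^ j * (d * e) * ((d * e) ^ (j) * d) := by rw [h2, neg_neg]
        _ = (d * e) ^ (2 * j + 1) * d := by
            rw [show (2 * j + 1 : ℤ) = j + 1 + j by ring, zpow_add, zpow_add, zpow_one]
            simp only [mul_assoc]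
    rwa [h4] at h3

theorem inv_eq (h : Data G Ω D) {d : G} (hd : d ∈ D) : d⁻¹ = d := inv_eq_of_mul_eq_one_left (h.sq d hd)

/-- `d (de)^k = (de)^{-k} d`. -/
theorem mul_zpow_eq (h : Data G Ω D) {d e : G} (hd : d ∈ D) (he : e ∈ D) (k : ℤ) :
    d * (d * e) ^ k = (d * e) ^ (-k) * d := by
  have h1 : d * (d * e) * d⁻¹ = (d * e)⁻¹ := by
    rw [h.inv_eq hd, mul_inv_rev, h.inv_eq hd, h.inv_eq he, ← mul_assoc, h.sq d hd, one_mul]
  have : d * (d * e) ^ k * d⁻¹ = (d * e) ^ (-k) := by
    rw [← conj_zpow, h1, inv_zpow, zpow_neg]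
  rw [← this]; group

/-- Two elements of `D` with different fixed points have a product of odd order. -/
theorem odd_of_ne [Finite G] (h : Data G Ω D) {d e : G} (hd : d ∈ D) (he : e ∈ D) {a : Ω}
    (ha : d • a = a) (hea : e • a ≠ a) : Odd (orderOf (d * e)) := by
  by_contra hodd
  rw [Nat.not_odd_iff_even] at hodd
  obtain ⟨m, hm⟩ := hodd
  have hpos := orderOf_pos (d * e)
  set r := d * e with hr
  set u := r ^ m with hu
  have huu : u * u = 1 := by rw [hu, ← pow_add, ← hm, pow_orderOf_eq_one]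
  have hu1 : u ≠ 1 := by
    intro h1
    have := orderOf_dvd_of_pow_eq_one h1
    have := Nat.le_of_dvd (by omega) this
    omega
  have hui : u⁻¹ = u := inv_eq_of_mul_eq_one_left huu
  have hdu : d * u = u * d := by
    have := h.mul_zpow_eq hd he (m : ℤ)
    rw [zpow_neg, zpow_natCast, ← hr, ← hu, hui] at this
    exact this
  have hru : r * u = u * r := by rw [hu, ← pow_succ, ← pow_succ']
  have heu : e * u = u * e := by
    have : e = d * r := by rw [hr, ← mul_assoc, h.sq d hd, one_mul]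
    rw [this, mul_assoc, hru, ← mul_assoc, hdu, mul_assoc]
  have hduD : u * d ∈ D := by
    have := h.zpow_mul_mem hd he (m : ℤ)
    rwa [zpow_natCast, ← hr, ← hu] at this
  have h1 := h.comm d hd (u * d) hduD (fun hh => hu1 (by
    have : u * d = 1 * d := by rw [← hh, one_mul]
    exact mul_right_cancel this)) (by rw [← mul_assoc, hdu, mul_assoc]) a ha e (by
      have : d * (u * d) = u := by rw [← mul_assoc, hdu, mul_assoc, h.sq d hd, mul_one]
      rw [this, heu])
  exact hea h1

/-- For `d, e` in `D` with different fixed points there is a unique element of `D` conjugating `d` to `e`. -/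
theorem exists_swap [Finite G] (h : Data G Ω D) {d e : G} (hd : d ∈ D) (he : e ∈ D) {a : Ω}
    (ha : d • a = a) (hea : e • a ≠ a) :
    ∃ x ∈ D, x * d * x⁻¹ = e ∧ (∀ y ∈ D, y * d * y⁻¹ = e → y = x) ∧
      (∀ g : G, g * d = d * g → g * e = e * g → g * x = x * g) := by
  obtain ⟨j, hj⟩ := h.odd_of_ne hd he ha hea
  have hrn : (d * e) ^ (2 * (j : ℤ) + 1) = 1 := by
    have := pow_orderOf_eq_one (d * e)
    rw [hj] at this
    rw [← this, ← zpow_natCast]; push_cast; rfl
  have hdi := h.inv_eq hd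
  have hei := h.inv_eq he
  have hx := h.zpow_mul_mem hd he j
  set r := d * e with hr
  have hdr : ∀ k : ℤ, d * r ^ k = r ^ (-k) * d := fun k => h.mul_zpow_eq hd he k
  have he' : e = r ^ (-1 : ℤ) * d := by
    rw [zpow_neg, zpow_one, hr, mul_inv_rev, hdi, hei, mul_assoc, h.sq d hd, mul_one]
  obtain ⟨x, hxdef⟩ : ∃ x, x = r ^ (j : ℤ) * d := ⟨_, rfl⟩
  rw [← hxdef] at hx
  have hxi := h.inv_eq hx
  have hxde : x * d * x⁻¹ = e := by
    rw [hxi, hxdef, mul_assoc (r ^ (j : ℤ)) d d, h.sq d hd, mul_one, ← mul_assoc, ← zpow_add, he']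
    congr 1
    have : ((j : ℤ) + j) = (2 * j + 1) + (-1) := by ring
    rw [this, zpow_add, hrn, one_mul]
  refine ⟨x, hx, hxde, ?_, ?_⟩
  · intro y hy hyde
    by_contra hne
    have hyi := h.inv_eq hy
    have hyed : y * e * y⁻¹ = d := by
      rw [← hyde, hyi]
      calc y * (y * d * y) * y = (y * y) * d * (y * y) := by simp only [mul_assoc]
        _ = d := by rw [h.sq y hy, one_mul, mul_one]
    have hyr : y * r * y⁻¹ = r⁻¹ := by
      have : y * r * y⁻¹ = (y * d * y⁻¹) * (y * e * y⁻¹) := by rw [hr]; group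
      rw [this, hyde, hyed, hr, mul_inv_rev, hdi, hei]
    have hyx : y * x * y⁻¹ = x := by
      have h1 : y * x * y⁻¹ = (y * r ^ (j : ℤ) * y⁻¹) * (y * d * y⁻¹) := by rw [hxdef]; group
      rw [h1, ← conj_zpow, hyr, hyde, he', ← mul_assoc, inv_zpow', ← zpow_add, hxdef]
      congr 1
      have : (-(j : ℤ) + -1) = j - (2 * j + 1) := by ring
      rw [this, zpow_sub, hrn, inv_one, mul_one]
    have hcomm : x * y = y * x := (mul_inv_eq_iff_eq_mul.1 hyx).symm
    have h2 := h.comm x hx y hy (Ne.symm hne) hcomm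
    obtain ⟨b, hb, -⟩ := h.fix x hx
    have h3 := h2 b hb d (by
      have e1 : y * d = e * y := by rw [← hyde]; group
      have e2 : x * e = d * x := by
        have : x * e * x⁻¹ = d := by
          rw [← hxde, hxi]
          calc x * (x * d * x) * x = (x * x) * d * (x * x) := by simp only [mul_assoc]
            _ = d := by rw [h.sq x hx, one_mul, mul_one]
        rw [← this]; group
      calc d * (x * y) = (d * x) * y := by rw [mul_assoc]
        _ = x * e * y := by rw [e2]
        _ = x * (y * d) := by rw [e1, mul_assoc]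
        _ = x * y * d := by rw [mul_assoc])
    have h4 : a = b := h.unique_fix hd ha h3
    apply hea
    rw [← hxde, mul_smul, mul_smul, hxi, h4, hb, ← h4, ha, h4, hb]
  · intro g h1 h2
    have h3 : Commute g r := (Commute.mul_right (show Commute g d from h1) (show Commute g e from h2))
    rw [hxdef]
    exact ((h3.zpow_right _).mul_right (show Commute g d from h1)).eq

/-- An involution permuting a set of odd order has a fixed point. -/
theorem _root_.Cfsg.Agent.SylowTypes.Lite.exists_fixed {α : Type*} [Finite α] (hα : Odd (Nat.card α))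
    (σ : α → α) (hσ : ∀ a, σ (σ a) = a) : ∃ a, σ a = a := by
  classical
  have : Fintype α := Fintype.ofFinite α
  have : Fact (Nat.Prime 2) := ⟨Nat.prime_two⟩
  have h2 : ¬ 2 ∣ Fintype.card α := by
    rw [← Nat.card_eq_fintype_card]
    exact hα.not_two_dvd_nat
  obtain ⟨a, ha⟩ := Equiv.Perm.exists_fixed_point_of_prime (p := 2) (n := 1) h2
    (σ := ⟨σ, σ, hσ, hσ⟩) (by
      ext a
      exact hσ a)
  exact ⟨a, ha⟩

/-- The number of fixed points of an involution of a set of odd order is odd. -/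
theorem _root_.Cfsg.Agent.SylowTypes.Lite.odd_card_fixed {α : Type*} [Finite α] (hα : Odd (Nat.card α))
    (σ : α → α) (hσ : ∀ a, σ (σ a) = a) : Odd (Nat.card {a : α // σ a = a}) := by
  classical
  have : Fintype α := Fintype.ofFinite α
  have : Fact (Nat.Prime 2) := ⟨Nat.prime_two⟩
  have h1 := Equiv.Perm.card_fixedPoints_modEq (α := α) (f := (σ : Function.End α)) (p := 2) (n := 1) (by
    funext a
    exact hσ a)
  rw [Nat.odd_iff, Nat.card_eq_fintype_card] at hα ⊢
  rw [← hα]
  exact h1.symm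

/-- An involution `u` fixing `a` centralises some `d ∈ D` fixing `a`. -/
theorem exists_comm [Finite G] (h : Data G Ω D) {u : G} (hu : u * u = 1) {a : Ω} (ha : u • a = a) :
    ∃ d ∈ D, d • a = a ∧ u * d = d * u := by
  have hui : u⁻¹ = u := inv_eq_of_mul_eq_one_left hu
  obtain ⟨⟨d, hd, hda⟩, h1⟩ := Cfsg.Agent.SylowTypes.Lite.exists_fixed (h.odd_fiber a)
    (fun d => ⟨u * d * u⁻¹, h.conj u d d.2.1, by
      rw [hui, mul_smul, mul_smul, ha, d.2.2, ha]⟩)
    (fun d => Subtype.ext (by
      change u * (u * d * u⁻¹) * u⁻¹ = d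
      rw [hui]
      calc u * (u * d * u) * u = (u * u) * d * (u * u) := by simp only [mul_assoc]
        _ = d := by rw [hu, one_mul, mul_one]))
  refine ⟨d, hd, hda, ?_⟩
  have h2 := congrArg Subtype.val h1
  exact mul_inv_eq_iff_eq_mul.1 h2

/-- the case of an involution `u` moving the point `c`. -/
theorem exists_of_moves [Finite G] [Finite Ω] (h : Data G Ω D) (hΩ : Odd (Nat.card Ω)) {u : G} (hu : u * u = 1) {c : Ω}
    (hc : u • c ≠ c) : ∃ x ∈ D, u * x = x * u ∧ (u * x) • c = c ∧ (∃ f : Ω, u • f = f ∧ x • f = f) ∧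
      ∃ d ∈ D, d • c = c ∧ (u * x) * d = d * (u * x) := by
  have hui : u⁻¹ = u := inv_eq_of_mul_eq_one_left hu
  obtain ⟨⟨d, hd, hdc⟩⟩ : Nonempty {d : G // d ∈ D ∧ d • c = c} := by
    have h1 : 0 < Nat.card {d : G // d ∈ D ∧ d • c = c} := (h.odd_fiber c).pos
    exact (Nat.card_pos_iff.1 h1).1
  have he := h.conj u d hd
  have hee : (u * d * u⁻¹) • (u • c) = u • c := by
    rw [← mul_smul, inv_mul_cancel_right, mul_smul, hdc]
  have hec : (u * d * u⁻¹) • c ≠ c := fun hh => hc (h.unique_fix he hee hh)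
  obtain ⟨x, hx, hxd, hxu, -⟩ := h.exists_swap hd he hdc hec
  have hxi := h.inv_eq hx
  have hxe : x * (u * d * u⁻¹) * x⁻¹ = d := by
    rw [← hxd, hxi]
    calc x * (x * d * x) * x = (x * x) * d * (x * x) := by simp only [mul_assoc]
      _ = d := by rw [h.sq x hx, one_mul, mul_one]
  have hux : u * x * u⁻¹ = x := by
    apply hxu _ (h.conj u x hx)
    calc u * x * u⁻¹ * d * (u * x * u⁻¹)⁻¹ = u * (x * (u⁻¹ * d * u) * x⁻¹) * u⁻¹ := by group
      _ = u * (x * (u * d * u⁻¹) * x⁻¹) * u⁻¹ := by rw [hui]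
      _ = u * d * u⁻¹ := by rw [hxe]
  have hcomm : u * x = x * u := mul_inv_eq_iff_eq_mul.1 hux
  have hd2 : (u * x) * d = d * (u * x) := by
    have : (u * x) * d * (u * x)⁻¹ = d := by
      calc (u * x) * d * (u * x)⁻¹ = u * (x * d * x⁻¹) * u⁻¹ := by group
        _ = u * (u * d * u⁻¹) * u⁻¹ := by rw [hxd]
        _ = (u * u) * d * (u * u) := by rw [hui]; simp only [mul_assoc]
        _ = d := by rw [hu, one_mul, mul_one]
    exact mul_inv_eq_iff_eq_mul.1 this
  refine ⟨x, hx, hcomm, h.fix_of_comm hd hdc hd2, ?_, d, hd, hdc, hd2⟩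
  have hodd : Odd (Nat.card {f : Ω // u • f = f}) :=
    Cfsg.Agent.SylowTypes.Lite.odd_card_fixed hΩ (fun f => u • f) (fun f => by
      rw [← mul_smul, hu, one_smul])
  obtain ⟨⟨f, hf⟩, h1⟩ := Cfsg.Agent.SylowTypes.Lite.exists_fixed hodd
    (fun f => ⟨x • (f : Ω), by rw [← mul_smul, hcomm, mul_smul, f.2]⟩)
    (fun f => Subtype.ext (by
      change x • x • (f : Ω) = f
      rw [← mul_smul, h.sq x hx, one_smul]))
  exact ⟨f, hf, congrArg Subtype.val h1⟩

/-- `x` and `y` in `D ∩ C(u)` with different fixed points are conjugate in `C(u)`. -/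
theorem conj_of_ne [Finite G] (h : Data G Ω D) {u x y : G} (hx : x ∈ D) (hy : y ∈ D) (hux : u * x = x * u)
    (huy : u * y = y * u) {a : Ω} (ha : x • a = a) (hya : y • a ≠ a) :
    ∃ g : G, u * g = g * u ∧ g * x * g⁻¹ = y := by
  obtain ⟨g, hg, h1, -, h2⟩ := h.exists_swap hx hy ha hya
  exact ⟨g, h2 u hux huy, h1⟩

/-- If `u` is an involution with two fixed points then `D ∩ C(u)` is a class of `C(u)`. -/
theorem conj_of_two [Finite G] (h : Data G Ω D) {u x y : G} (hu : u * u = 1) (hx : x ∈ D) (hy : y ∈ D)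
    (hux : u * x = x * u) (huy : u * y = y * u) {f f' : Ω} (hf : u • f = f) (hf' : u • f' = f') (hff : f ≠ f') :
    ∃ g : G, u * g = g * u ∧ g * x * g⁻¹ = y := by
  obtain ⟨a, ha, -⟩ := h.fix x hx
  by_cases hya : y • a = a
  · obtain ⟨z, hz, huz, hza⟩ : ∃ z ∈ D, u * z = z * u ∧ z • a ≠ a := by
      by_cases hfa : a = f
      · obtain ⟨z, hz, hz1, hz2⟩ := h.exists_comm hu hf'
        exact ⟨z, hz, hz2, fun hh => hff (hfa ▸ h.unique_fix hz hh hz1)⟩
      · obtain ⟨z, hz, hz1, hz2⟩ := h.exists_comm hu hf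
        exact ⟨z, hz, hz2, fun hh => hfa (h.unique_fix hz hh hz1)⟩
    obtain ⟨g, hg, h1⟩ := h.conj_of_ne hx hz hux huz ha hza
    obtain ⟨g', hg', h2⟩ := h.conj_of_ne hy hz huy huz hya hza
    refine ⟨g'⁻¹ * g, ?_, ?_⟩
    · have c1 : Commute u g := hg
      have c2 : Commute u g' := hg'
      exact (c2.inv_right.mul_right c1).eq
    · calc g'⁻¹ * g * x * (g'⁻¹ * g)⁻¹ = g'⁻¹ * (g * x * g⁻¹) * g' := by group
        _ = g'⁻¹ * (g' * y * g'⁻¹) * g' := by rw [h1, h2]
        _ = y := by group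
  · exact h.conj_of_ne hx hy hux huy ha hya

/-- **The lemma.** -/
theorem mem_of_unique_fixed_point [Finite G] [Finite Ω] (h : Data G Ω D) (hΩ : Odd (Nat.card Ω))
    (hΩ1 : Nontrivial Ω) (hker : ∀ u : G, u * u = 1 → (∀ c : Ω, u • c = c) → u = 1)
    {w : G} (hw : w * w = 1) {a : Ω} (ha : w • a = a) (hwu : ∀ b : Ω, w • b = b → b = a) : w ∈ D := by
  obtain ⟨c, hca⟩ := exists_ne a
  have hwc : w • c ≠ c := fun hh => hca (hwu c hh)
  obtain ⟨x, hx, hwx, hwxc, ⟨f, hf1, hf2⟩, -⟩ := h.exists_of_moves hΩ hw hwc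
  have hfa : f = a := hwu f hf1
  subst hfa
  by_contra hwD
  have hvv : (w * x) * (w * x) = 1 := by
    calc (w * x) * (w * x) = w * (x * w) * x := by simp only [mul_assoc]
      _ = w * (w * x) * x := by rw [hwx]
      _ = (w * w) * (x * x) := by simp only [mul_assoc]
      _ = 1 := by rw [hw, h.sq x hx, one_mul]
  have hv1 : w * x ≠ 1 := by
    intro hh
    apply hwD
    have : w = x⁻¹ := eq_inv_of_mul_eq_one_left hh
    rw [this, h.inv_eq hx]; exact hx
  -- `v` moves a point
  obtain ⟨c', hc'⟩ : ∃ c' : Ω, (w * x) • c' ≠ c' := by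
    by_contra hall
    push Not at hall
    exact hv1 (hker _ hvv hall)
  obtain ⟨y, hy, hvy, hvyc, ⟨f', hf1', hf2'⟩, -⟩ := h.exists_of_moves hΩ hvv hc'
  have hvx : (w * x) * x = x * (w * x) := by
    calc (w * x) * x = (x * w) * x := by rw [hwx]
      _ = x * (w * x) := by rw [mul_assoc]
  obtain ⟨g, hg, hgxy⟩ := h.conj_of_two hvv hy hx hvy hvx (f := f) (f' := c)
    (by rw [mul_smul, hf2, hf1]) hwxc hca.symm
  -- `v y` fixes `c'` and `f'`, so `v x = w` fixes `g • c'` and `g • f'`
  have hvw : (w * x) * x = w := by rw [mul_assoc, h.sq x hx, mul_one]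
  have key : ∀ p : Ω, ((w * x) * y) • p = p → w • (g • p) = g • p := by
    intro p hp
    have h1 : w * g = g * ((w * x) * y) := by
      calc w * g = ((w * x) * x) * g := by rw [hvw]
        _ = (w * x) * (g * y * g⁻¹) * g := by rw [hgxy]
        _ = ((w * x) * g) * y := by group
        _ = g * ((w * x) * y) := by rw [hg]; group
    rw [← mul_smul, h1, mul_smul, hp]
  have h3 := hwu _ (key c' hvyc)
  have h4 := hwu _ (key f' (by rw [mul_smul, hf2', hf1']))
  have h5 : c' = f' := by
    have := h3.trans h4.symm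
    exact MulAction.injective g this
  rw [h5] at hc'
  exact hc' hf1'

end General

end Data

end Cfsg.Agent.SylowTypes.Lite
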