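import Cfsg.Agent.SylowTypes.Lite
import Cfsg.Agent.SignalizersComponents.RelSylow
import Cfsg.Agent.S0015
import Mathlib.GroupTheory.Index
import Mathlib.GroupTheory.GroupAction.Quotient

/-!
# Subgroups controlling the centralizers of a weakly closed elementary abelian 2-subgroup

`V ≤ P ∈ Syl₂(G)` is elementary abelian and weakly closed in `P`; every involution of `Z(P)` has all its
`P`-conjugates (under `G`) in `V`; not all involutions of `V` are conjugate.  Then a subgroup `M` containing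
`N_G(V)` and all centralizers `C_G(v)` (`1 ≠ v ∈ V`) is all of `G`.
-/

set_option autoImplicit false

namespace Cfsg.Agent.SylowTypes.WeaklyClosed

open Subgroup Cfsg.Agent.SignalizersComponents.RelSylow

variable {G : Type*} [Group G]

/-- The configuration. -/
structure Config (P : Sylow 2 G) (V M : Subgroup G) : Prop where
  le : V ≤ P
  sq : ∀ v ∈ V, v * v = 1
  weak : ∀ g : G, (∀ v ∈ V, g * v * g⁻¹ ∈ (P : Subgroup G)) → ∀ v ∈ V, g * v * g⁻¹ ∈ V
  fus : ∀ x ∈ (P : Subgroup G), x * x = 1 → x ≠ 1 → (∀ p ∈ (P : Subgroup G), p * x = x * p) →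
    ∀ g : G, g * x * g⁻¹ ∈ (P : Subgroup G) → g * x * g⁻¹ ∈ V
  norm : normalizer (V : Set G) ≤ M
  cent : ∀ v ∈ V, v ≠ 1 → centralizer ({v} : Set G) ≤ M

namespace Config

variable {P : Sylow 2 G} {V M : Subgroup G}

theorem mem_normalizer (_h : Config P V M) {g : G} (hg : ∀ v ∈ V, g * v * g⁻¹ ∈ V)
    (hg' : ∀ v ∈ V, g⁻¹ * v * g ∈ V) : g ∈ normalizer (V : Set G) := by
  rw [mem_normalizer_iff]
  intro v
  refine ⟨hg v, fun hv => ?_⟩
  have := hg' _ hv
  have h1 : g⁻¹ * (g * v * g⁻¹) * g = v := by group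
  rwa [h1] at this

theorem normalizer_le (h : Config P V M) : normalizer ((P : Subgroup G) : Set G) ≤ normalizer (V : Set G) := by
  intro g hg
  apply h.mem_normalizer
  · exact h.weak g fun v hv => (mem_normalizer_iff.1 hg v).1 (h.le hv)
  · intro v hv
    have := h.weak g⁻¹ (fun v hv => by
      rw [inv_inv]
      exact (mem_normalizer_iff''.1 hg v).1 (h.le hv)) v hv
    rwa [inv_inv] at this

theorem sylow_le_normalizer (h : Config P V M) : (P : Subgroup G) ≤ normalizer (V : Set G) :=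
  le_normalizer.trans h.normalizer_le

theorem sylow_le (h : Config P V M) : (P : Subgroup G) ≤ M := h.sylow_le_normalizer.trans h.norm

theorem isMaxP (h : Config P V M) : IsMaxP 2 M (P : Subgroup G) :=
  ⟨P.isPGroup', h.sylow_le, fun _ h1 _ h3 => (P.is_maximal' h1 h3).le⟩

/-- a Sylow 2-subgroup of `G` contained in `M`. -/
theorem isMaxP_conj (h : Config P V M) {g : G} (hg : ∀ p ∈ (P : Subgroup G), g * p * g⁻¹ ∈ M) :
    IsMaxP 2 M ((P : Subgroup G).map (MulAut.conj g).toMonoidHom) := by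
  have h1 := (h.isMaxP.map_conj g)
  refine ⟨h1.1, ?_, fun R' h2 _ h4 => ?_⟩
  · rintro _ ⟨p, hp, rfl⟩
    exact hg p hp
  · have key : R'.map (MulAut.conj g⁻¹).toMonoidHom ≤ (P : Subgroup G) := by
      apply (P.is_maximal' (h2.map _) _).le
      intro p hp
      refine ⟨g * p * g⁻¹, h4 ⟨p, hp, rfl⟩, ?_⟩
      simp
      group
    intro r hr
    refine ⟨g⁻¹ * r * g, key ⟨r, hr, by simp⟩, ?_⟩
    change g * (g⁻¹ * r * g) * g⁻¹ = r
    group

/-- If `x` is an involution of `Z(P)` and `g x g⁻¹ ∈ M` then `g ∈ M`. -/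
theorem mem_of_conj_mem [Finite G] (h : Config P V M) {x g : G} (hx : x ∈ (P : Subgroup G)) (hxx : x * x = 1)
    (hx1 : x ≠ 1) (hxc : ∀ p ∈ (P : Subgroup G), p * x = x * p) (hg : g * x * g⁻¹ ∈ M) : g ∈ M := by
  have : Fact (Nat.Prime 2) := ⟨Nat.prime_two⟩
  -- the conjugate is in `P` up to `M`
  have hp2 : IsPGroup 2 (zpowers (g * x * g⁻¹)) := by
    apply IsPGroup.of_card (n := 1)
    rw [Nat.card_zpowers, pow_one]
    apply orderOf_eq_prime
    · rw [pow_two]
      calc g * x * g⁻¹ * (g * x * g⁻¹) = g * (x * x) * g⁻¹ := by group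
        _ = 1 := by rw [hxx]; group
    · intro hh
      apply hx1
      calc x = g⁻¹ * (g * x * g⁻¹) * g := by group
        _ = 1 := by rw [hh]; group
  obtain ⟨m, hm, h1⟩ := h.isMaxP.exists_conj_le hp2 (by rwa [zpowers_le])
  have h2 : (m * g) * x * (m * g)⁻¹ ∈ (P : Subgroup G) := by
    have := h1 ⟨g * x * g⁻¹, mem_zpowers _, rfl⟩
    have h3 : (MulAut.conj m).toMonoidHom (g * x * g⁻¹) = (m * g) * x * (m * g)⁻¹ := by
      change m * (g * x * g⁻¹) * m⁻¹ = _
      group
    rwa [h3] at this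
  have h3 := h.fus x hx hxx hx1 hxc (m * g) h2
  have h4 : (m * g) * x * (m * g)⁻¹ ≠ 1 := by
    intro hh
    apply hx1
    calc x = (m * g)⁻¹ * ((m * g) * x * (m * g)⁻¹) * (m * g) := by group
      _ = 1 := by rw [hh]; group
  have h5 := h.cent _ h3 h4
  -- the conjugate of `P` is in `M`
  have h6 : ∀ p ∈ (P : Subgroup G), (m * g) * p * (m * g)⁻¹ ∈ M := by
    intro p hp
    apply h5
    rw [mem_centralizer_singleton_iff]
    have := hxc p hp
    calc (m * g) * p * (m * g)⁻¹ * ((m * g) * x * (m * g)⁻¹) = (m * g) * (p * x) * (m * g)⁻¹ := by group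
      _ = (m * g) * (x * p) * (m * g)⁻¹ := by rw [this]
      _ = (m * g) * x * (m * g)⁻¹ * ((m * g) * p * (m * g)⁻¹) := by group
  obtain ⟨n, hn, h7⟩ := (h.isMaxP_conj h6).exists_conj h.isMaxP
  have h8 : n * (m * g) ∈ normalizer ((P : Subgroup G) : Set G) := by
    rw [mem_normalizer_iff]
    intro y
    have h11 : n * (m * g) * y * (n * (m * g))⁻¹ ∈ ((P : Subgroup G).map (MulAut.conj (m * g)).toMonoidHom).map
        (MulAut.conj n).toMonoidHom ↔ y ∈ (P : Subgroup G) := by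
      rw [mem_map_conj, mem_map_conj]
      have : (m * g)⁻¹ * (n⁻¹ * (n * (m * g) * y * (n * (m * g))⁻¹) * n) * (m * g) = y := by group
      rw [this]
    rw [h7] at h11
    exact h11.symm
  have h9 := h.norm (h.normalizer_le h8)
  have h10 : g = m⁻¹ * (n⁻¹ * (n * (m * g))) := by group
  rw [h10]
  exact mul_mem (inv_mem hm) (mul_mem (inv_mem hn) h9)

/-- The number of conjugates of `z` in `M`-conjugate position: odd. -/
theorem odd_card [Finite G] (h : Config P V M) {z : G} (hz : z ∈ (P : Subgroup G)) (hzz : z * z = 1) (hz1 : z ≠ 1)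
    (hzc : ∀ p ∈ (P : Subgroup G), p * z = z * p) (k : G) :
    Odd (Nat.card {d : G // IsConj z d ∧ k⁻¹ * d * k ∈ M}) := by
  have : Fact (Nat.Prime 2) := ⟨Nat.prime_two⟩
  -- the conjugates of `z` in `k M k⁻¹` are the `k m z m⁻¹ k⁻¹`, `m ∈ M`
  let C : Subgroup M := (centralizer ({z} : Set G)).subgroupOf M
  let f : M ⧸ C → {d : G // IsConj z d ∧ k⁻¹ * d * k ∈ M} := fun q =>
    Quotient.liftOn' q (fun m => ⟨k * ((m : G) * z * (m : G)⁻¹) * k⁻¹,
      isConj_iff.2 ⟨k * m, by group⟩, by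
        have : k⁻¹ * (k * ((m : G) * z * (m : G)⁻¹) * k⁻¹) * k = (m : G) * z * (m : G)⁻¹ := by group
        rw [this]
        exact mul_mem (mul_mem m.2 (h.sylow_le hz)) (inv_mem m.2)⟩) (by
      intro a b hab
      rw [QuotientGroup.leftRel_apply] at hab
      have h1 : ((a : G)⁻¹ * b) * z = z * ((a : G)⁻¹ * b) := mem_centralizer_singleton_iff.1 hab
      apply Subtype.ext
      change k * ((a : G) * z * (a : G)⁻¹) * k⁻¹ = k * ((b : G) * z * (b : G)⁻¹) * k⁻¹
      have h2 : (b : G) * z * (b : G)⁻¹ = (a : G) * (((a : G)⁻¹ * b) * z) * (b : G)⁻¹ := by group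
      rw [h2, h1]; group)
  have hf : Function.Bijective f := by
    constructor
    · rintro ⟨a⟩ ⟨b⟩ hab
      have h1 : k * ((a : G) * z * (a : G)⁻¹) * k⁻¹ = k * ((b : G) * z * (b : G)⁻¹) * k⁻¹ := congrArg Subtype.val hab
      apply Quotient.sound'
      rw [QuotientGroup.leftRel_apply]
      change (a : G)⁻¹ * b ∈ centralizer ({z} : Set G)
      rw [mem_centralizer_singleton_iff]
      have h2 : (a : G) * z * (a : G)⁻¹ = (b : G) * z * (b : G)⁻¹ := mul_left_cancel (mul_right_cancel h1)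
      calc (a : G)⁻¹ * b * z = (a : G)⁻¹ * ((b : G) * z * (b : G)⁻¹) * b := by group
        _ = (a : G)⁻¹ * ((a : G) * z * (a : G)⁻¹) * b := by rw [h2]
        _ = z * ((a : G)⁻¹ * b) := by group
    · rintro ⟨d, hd, hdM⟩
      obtain ⟨g, hg⟩ := isConj_iff.1 hd
      have h1 : (k⁻¹ * g) * z * (k⁻¹ * g)⁻¹ = k⁻¹ * d * k := by rw [← hg]; group
      have h2 : k⁻¹ * g ∈ M := h.mem_of_conj_mem hz hzz hz1 hzc (by rw [h1]; exact hdM)
      refine ⟨QuotientGroup.mk ⟨k⁻¹ * g, h2⟩, Subtype.ext ?_⟩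
      change k * ((k⁻¹ * g) * z * (k⁻¹ * g)⁻¹) * k⁻¹ = d
      rw [h1]; group
  rw [← Nat.card_congr (Equiv.ofBijective f hf)]
  have h3 : Nat.card (M ⧸ C) = (centralizer ({z} : Set G)).relIndex M := rfl
  rw [h3]
  have h4 : ¬ 2 ∣ (P : Subgroup G).relIndex M := h.isMaxP.not_dvd_index
  have h5 : (P : Subgroup G) ≤ centralizer ({z} : Set G) := fun p hp =>
    mem_centralizer_singleton_iff.2 (hzc p hp)
  rw [Nat.odd_iff]
  have h6 : (centralizer ({z} : Set G)).relIndex M ∣ (P : Subgroup G).relIndex M :=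
    relIndex_dvd_of_le_left M h5
  have h7 : ¬ 2 ∣ (centralizer ({z} : Set G)).relIndex M := fun h8 => h4 (h8.trans h6)
  omega

/-- Two commuting involutions of `M` can be conjugated simultaneously into `P`. -/
theorem _root_.Cfsg.Agent.SylowTypes.WeaklyClosed.exists_mem_conj_mem [Finite G] {M R : Subgroup G}
    (hR : IsMaxP 2 M R) {x y : G} (hx : x ∈ M) (hy : y ∈ M) (hxx : x * x = 1) (hyy : y * y = 1)
    (hxy : x * y = y * x) : ∃ m ∈ M, m * x * m⁻¹ ∈ R ∧ m * y * m⁻¹ ∈ R := by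
  have : Fact (Nat.Prime 2) := ⟨Nat.prime_two⟩
  have hp : IsPGroup 2 (closure ({x, y} : Set G)) := by
    have hc : ∀ a ∈ closure ({x, y} : Set G), a * a = 1 := by
      have hcomm : ∀ a ∈ closure ({x, y} : Set G), ∀ b ∈ closure ({x, y} : Set G), a * b = b * a := by
        have hS : ∀ a ∈ ({x, y} : Set G), ∀ b ∈ ({x, y} : Set G), a * b = b * a := by
          rintro a (rfl | rfl) b (rfl | rfl)
          · rfl
          · exact hxy
          · exact hxy.symm
          · rfl
        have hle : closure ({x, y} : Set G) ≤ centralizer (closure ({x, y} : Set G) : Set G) := by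
          rw [closure_le]
          intro a ha
          rw [SetLike.mem_coe, mem_centralizer_iff]
          intro b hb
          induction hb using closure_induction with
          | mem b hb => exact hS b hb a ha
          | one => rw [one_mul, mul_one]
          | mul b c _ _ hb hc => rw [mul_assoc, hc, ← mul_assoc, hb, mul_assoc]
          | inv b _ hb => exact ((show Commute b a from hb).inv_left).eq
        intro a ha b hb
        exact (mem_centralizer_iff.1 (hle hb) a ha)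
      intro a ha
      induction ha using closure_induction with
      | mem a ha =>
        rcases ha with rfl | rfl
        · exact hxx
        · exact hyy
      | one => rw [one_mul]
      | mul a b ha hb h1 h2 =>
        have := hcomm a ha b hb
        calc a * b * (a * b) = a * (b * a) * b := by simp only [mul_assoc]
          _ = a * (a * b) * b := by rw [this]
          _ = (a * a) * (b * b) := by simp only [mul_assoc]
          _ = 1 := by rw [h1, h2, one_mul]
      | inv a _ h1 => rw [← mul_inv_rev, h1, inv_one]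
    rintro ⟨a, ha⟩
    exact ⟨1, Subtype.ext (by simpa [pow_two] using hc a ha)⟩
  obtain ⟨m, hm, h1⟩ := hR.exists_conj_le hp (by
    rw [closure_le]
    rintro a (rfl | rfl)
    · exact hx
    · exact hy)
  exact ⟨m, hm, h1 ⟨x, subset_closure (by simp), rfl⟩, h1 ⟨y, subset_closure (by simp), rfl⟩⟩

theorem smul_coe_eq_iff {d k : G} : d • (k : G ⧸ M) = (k : G ⧸ M) ↔ k⁻¹ * d * k ∈ M := by
  rw [MulAction.Quotient.smul_coe, smul_eq_mul, eq_comm, QuotientGroup.eq, mul_assoc]

/-- The data of the lemma on involutions with one fixed point. -/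
theorem data [Finite G] (h : Config P V M) {z : G} (hz : z ∈ (P : Subgroup G)) (hzz : z * z = 1) (hz1 : z ≠ 1)
    (hzc : ∀ p ∈ (P : Subgroup G), p * z = z * p) : Lite.Data G (G ⧸ M) {d : G | IsConj z d} := by
  have : Fact (Nat.Prime 2) := ⟨Nat.prime_two⟩
  have hsq : ∀ d ∈ {d : G | IsConj z d}, d * d = 1 := by
    rintro d hd
    obtain ⟨g, rfl⟩ := isConj_iff.1 hd
    calc g * z * g⁻¹ * (g * z * g⁻¹) = g * (z * z) * g⁻¹ := by group
      _ = 1 := by rw [hzz]; group
  have hne : ∀ d ∈ {d : G | IsConj z d}, d ≠ 1 := by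
    rintro d hd rfl
    obtain ⟨g, hg⟩ := isConj_iff.1 hd
    apply hz1
    calc z = g⁻¹ * (g * z * g⁻¹) * g := by group
      _ = 1 := by rw [hg]; group
  have hfix : ∀ d ∈ {d : G | IsConj z d}, ∃ a : G ⧸ M, d • a = a ∧ ∀ b : G ⧸ M, d • b = b → b = a := by
    rintro d hd
    obtain ⟨g, rfl⟩ := isConj_iff.1 hd
    refine ⟨(g : G ⧸ M), ?_, ?_⟩
    · rw [smul_coe_eq_iff]
      have : g⁻¹ * (g * z * g⁻¹) * g = z := by group
      rw [this]; exact h.sylow_le hz
    · rintro ⟨k⟩ hk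
      change (g * z * g⁻¹) • (k : G ⧸ M) = (k : G ⧸ M) at hk
      rw [smul_coe_eq_iff] at hk
      change (k : G ⧸ M) = (g : G ⧸ M)
      rw [QuotientGroup.eq]
      apply h.mem_of_conj_mem hz hzz hz1 hzc
      have : k⁻¹ * (g * z * g⁻¹) * k = k⁻¹ * g * z * (k⁻¹ * g)⁻¹ := by group
      rwa [this] at hk
  refine ⟨?_, hsq, hfix, ?_, ?_⟩
  · rintro g d hd
    obtain ⟨k, rfl⟩ := isConj_iff.1 hd
    exact isConj_iff.2 ⟨g * k, by group⟩
  · intro d hd e he hde hcomm a ha g hg
    -- `e` fixes the point, too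
    have hea : e • a = a := by
      obtain ⟨c, -, hc⟩ := hfix d hd
      have h1 : d • (e • a) = e • a := by rw [← mul_smul, hcomm, mul_smul, ha]
      rw [hc _ h1, hc _ ha]
    obtain ⟨k, rfl⟩ := QuotientGroup.mk_surjective a
    rw [smul_coe_eq_iff] at ha hea
    -- the subgroup of order four
    have hdd := hsq d hd
    have hee := hsq e he
    have hdi : d⁻¹ = d := inv_eq_of_mul_eq_one_left hdd
    have hei : e⁻¹ = e := inv_eq_of_mul_eq_one_left hee
    obtain ⟨m, hm, h1⟩ := exists_mem_conj_mem h.isMaxP (x := k⁻¹ * d * k) (y := k⁻¹ * e * k) ha hea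
      (by calc k⁻¹ * d * k * (k⁻¹ * d * k) = k⁻¹ * (d * d) * k := by group
            _ = 1 := by rw [hdd]; group)
      (by calc k⁻¹ * e * k * (k⁻¹ * e * k) = k⁻¹ * (e * e) * k := by group
            _ = 1 := by rw [hee]; group)
      (by calc k⁻¹ * d * k * (k⁻¹ * e * k) = k⁻¹ * (d * e) * k := by group
            _ = k⁻¹ * (e * d) * k := by rw [hcomm]
            _ = k⁻¹ * e * k * (k⁻¹ * d * k) := by group)
    obtain ⟨gd, hgd⟩ := isConj_iff.1 hd
    obtain ⟨ge, hge⟩ := isConj_iff.1 he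
    have h2 : m * (k⁻¹ * d * k) * m⁻¹ ∈ V := by
      have h3 : m * (k⁻¹ * d * k) * m⁻¹ = (m * k⁻¹ * gd) * z * (m * k⁻¹ * gd)⁻¹ := by rw [← hgd]; group
      rw [h3]
      exact h.fus z hz hzz hz1 hzc _ (by rw [← h3]; exact h1.1)
    have h4 : m * (k⁻¹ * e * k) * m⁻¹ ∈ V := by
      have h3 : m * (k⁻¹ * e * k) * m⁻¹ = (m * k⁻¹ * ge) * z * (m * k⁻¹ * ge)⁻¹ := by rw [← hge]; group
      rw [h3]
      exact h.fus z hz hzz hz1 hzc _ (by rw [← h3]; exact h1.2)
    have h5 : m * (k⁻¹ * (d * e) * k) * m⁻¹ ∈ V := by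
      have := mul_mem h2 h4
      have h3 : m * (k⁻¹ * d * k) * m⁻¹ * (m * (k⁻¹ * e * k) * m⁻¹) = m * (k⁻¹ * (d * e) * k) * m⁻¹ := by group
      rwa [h3] at this
    have h6 : m * (k⁻¹ * (d * e) * k) * m⁻¹ ≠ 1 := by
      intro hh
      apply hde
      have h7 : d * e = 1 := by
        calc d * e = k * m⁻¹ * (m * (k⁻¹ * (d * e) * k) * m⁻¹) * m * k⁻¹ := by group
          _ = 1 := by rw [hh]; group
      rw [mul_eq_one_iff_eq_inv, hei] at h7
      exact h7
    have h7 := h.cent _ h5 h6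
    rw [smul_coe_eq_iff]
    have h8 : m * (k⁻¹ * g * k) * m⁻¹ ∈ M := by
      apply h7
      rw [mem_centralizer_singleton_iff]
      calc m * (k⁻¹ * g * k) * m⁻¹ * (m * (k⁻¹ * (d * e) * k) * m⁻¹) = m * k⁻¹ * (g * (d * e)) * k * m⁻¹ := by group
        _ = m * k⁻¹ * (d * e * g) * k * m⁻¹ := by rw [hg]
        _ = m * (k⁻¹ * (d * e) * k) * m⁻¹ * (m * (k⁻¹ * g * k) * m⁻¹) := by group
    have h9 : k⁻¹ * g * k = m⁻¹ * (m * (k⁻¹ * g * k) * m⁻¹) * m := by group
    rw [h9]
    exact mul_mem (mul_mem (inv_mem hm) h8) hm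
  · rintro ⟨k⟩
    have h1 := h.odd_card hz hzz hz1 hzc k
    have h2 : Nat.card {d : G // d ∈ {d : G | IsConj z d} ∧ d • (k : G ⧸ M) = (k : G ⧸ M)} =
        Nat.card {d : G // IsConj z d ∧ k⁻¹ * d * k ∈ M} :=
      Nat.card_congr (Equiv.subtypeEquivRight fun d => by rw [smul_coe_eq_iff]; rfl)
    change Odd (Nat.card {d : G // d ∈ {d : G | IsConj z d} ∧ d • (k : G ⧸ M) = (k : G ⧸ M)})
    rw [h2]
    exact h1

/-- No involution acts trivially on `G/M` unless `M = G`. -/
theorem eq_top_of_trivial [Finite G] (h : Config P V M) {u : G} (huu : u * u = 1) (hu1 : u ≠ 1)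
    (hu : ∀ c : G ⧸ M, u • c = c) : M = ⊤ := by
  have : Fact (Nat.Prime 2) := ⟨Nat.prime_two⟩
  -- the kernel of the action
  let K : Subgroup G := M.normalCore
  have huK : u ∈ K := by
    intro g
    have := hu ((g⁻¹ : G) : G ⧸ M)
    rw [smul_coe_eq_iff, inv_inv] at this
    exact this
  have hKn : K.Normal := normalCore_normal M
  -- a conjugate of `u` is in `P`
  obtain ⟨m, hm, h1, -⟩ := exists_mem_conj_mem h.isMaxP (x := u) (y := u) (normalCore_le M huK)
    (normalCore_le M huK) huu huu rfl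
  have h2 : m * u * m⁻¹ ∈ K := hKn.conj_mem u huK m
  have h3 : m * u * m⁻¹ ≠ 1 := by
    intro hh
    apply hu1
    calc u = m⁻¹ * (m * u * m⁻¹) * m := by group
      _ = 1 := by rw [hh]; group
  have h4 : K.subgroupOf (P : Subgroup G) ≠ ⊥ := by
    intro hh
    have : (⟨m * u * m⁻¹, h1⟩ : (P : Subgroup G)) ∈ K.subgroupOf (P : Subgroup G) := h2
    rw [hh, mem_bot] at this
    exact h3 (congrArg Subtype.val this)
  have hnil : Group.IsNilpotent (P : Subgroup G) := P.isPGroup'.isNilpotent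
  obtain ⟨y, hyK, hy1, hyc⟩ := Cfsg.Agent.S0015.exists_mem_center_of_normal (K.subgroupOf (P : Subgroup G)) h4
  -- an involution in `K ∩ Z(P)`
  obtain ⟨k, hk⟩ := P.isPGroup' y
  have hex : ∃ n, y ^ 2 ^ n = 1 := ⟨k, hk⟩
  classical
  have hn := Nat.find_spec hex
  obtain ⟨n, hn'⟩ : ∃ n, Nat.find hex = n + 1 := by
    apply Nat.exists_eq_succ_of_ne_zero
    intro h0
    rw [h0, pow_zero, pow_one] at hn
    exact hy1 hn
  have hx1 : y ^ 2 ^ n ≠ 1 := Nat.find_min hex (by omega)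
  have hxx : y ^ 2 ^ n * y ^ 2 ^ n = 1 := by
    rw [← pow_add, ← two_mul, ← pow_succ', ← hn']; exact hn
  have hxc : y ^ 2 ^ n ∈ center (P : Subgroup G) := pow_mem hyc _
  have hxK : y ^ 2 ^ n ∈ K.subgroupOf (P : Subgroup G) := pow_mem hyK _
  rw [eq_top_iff]
  intro g _
  refine h.mem_of_conj_mem (x := ((y ^ 2 ^ n : (P : Subgroup G)) : G)) (y ^ 2 ^ n).2 (congrArg Subtype.val hxx)
    (fun hh => hx1 (Subtype.ext hh)) (fun p hp => ?_) ?_
  · exact congrArg Subtype.val (mem_center_iff.1 hxc ⟨p, hp⟩)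
  · exact normalCore_le M (hKn.conj_mem _ hxK g)

/-- **Main theorem.** If not all involutions of `V` are conjugate then `M = G`. -/
theorem eq_top [Finite G] (h : Config P V M) {z v : G} (hz : z ∈ (P : Subgroup G)) (hzz : z * z = 1) (hz1 : z ≠ 1)
    (hzc : ∀ p ∈ (P : Subgroup G), p * z = z * p) (hv : v ∈ V) (hv1 : v ≠ 1) (hzv : ¬ IsConj z v) : M = ⊤ := by
  have : Fact (Nat.Prime 2) := ⟨Nat.prime_two⟩
  by_contra hM
  have hd := h.data hz hzz hz1 hzc
  have hvv := h.sq v hv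
  have hbase : v • ((1 : G) : G ⧸ M) = ((1 : G) : G ⧸ M) := by
    rw [smul_coe_eq_iff]
    simpa using h.sylow_le (h.le hv)
  have hodd : Odd (Nat.card (G ⧸ M)) := by
    have h1 : ¬ 2 ∣ (P : Subgroup G).index := P.not_dvd_index
    have h2 : M.index ∣ (P : Subgroup G).index := index_dvd_of_le h.sylow_le
    have h3 : ¬ 2 ∣ M.index := fun h8 => h1 (h8.trans h2)
    change Odd M.index
    rw [Nat.odd_iff]; omega
  have hnt : Nontrivial (G ⧸ M) := by
    by_contra hnt
    rw [not_nontrivial_iff_subsingleton] at hnt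
    apply hM
    rw [eq_top_iff]
    intro g _
    have h1 : ((1 : G) : G ⧸ M) = (g : G ⧸ M) := Subsingleton.elim _ _
    rw [QuotientGroup.eq] at h1
    simpa using h1
  apply hzv
  refine hd.mem_of_unique_fixed_point hodd hnt ?_ hvv hbase ?_
  · intro u hu hall
    by_contra hu1
    exact hM (h.eq_top_of_trivial hu hu1 hall)
  · intro b hb
    obtain ⟨d, hdD, hdb, hvd⟩ := hd.exists_comm hvv hb
    have h1 : d ∈ M := h.cent v hv hv1 (mem_centralizer_singleton_iff.2 hvd.symm)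
    apply hd.unique_fix hdD hdb
    rw [smul_coe_eq_iff]
    simpa using h1

end Config

end Cfsg.Agent.SylowTypes.WeaklyClosed
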